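import Cfsg.Agent.Lib.Fus.Transv.Derived
import Cfsg.Agent.Lib.Fus.Transv.EnumM.LogMPart0
import Cfsg.Agent.Lib.Fus.Transv.EnumM.LogMPart1
import Cfsg.Agent.Lib.Fus.Transv.EnumM.LogMPart2
import Cfsg.Agent.Lib.Fus.Transv.EnumM.LogMPart3

/-! A checked coset enumeration. -/

set_option autoImplicit false
set_option maxRecDepth 100000
set_option maxHeartbeats 4000000

namespace Cfsg.Agent.Fus.Transv.EnumM

open Cfsg.Agent.Spor.Cos

theorem logM_def0 : allBlock logM.chkDef 16944 512 0 = true := by decide +kernel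

theorem logM_def1 : allBlock logM.chkDef 16944 512 1 = true := by decide +kernel

theorem logM_def2 : allBlock logM.chkDef 16944 512 2 = true := by decide +kernel

theorem logM_def3 : allBlock logM.chkDef 16944 512 3 = true := by decide +kernel

theorem logM_def4 : allBlock logM.chkDef 16944 512 4 = true := by decide +kernel

theorem logM_def5 : allBlock logM.chkDef 16944 512 5 = true := by decide +kernel

theorem logM_def6 : allBlock logM.chkDef 16944 512 6 = true := by decide +kernel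

theorem logM_def7 : allBlock logM.chkDef 16944 512 7 = true := by decide +kernel

theorem logM_def8 : allBlock logM.chkDef 16944 512 8 = true := by decide +kernel

theorem logM_def9 : allBlock logM.chkDef 16944 512 9 = true := by decide +kernel

theorem logM_def10 : allBlock logM.chkDef 16944 512 10 = true := by decide +kernel

theorem logM_def11 : allBlock logM.chkDef 16944 512 11 = true := by decide +kernel

theorem logM_def12 : allBlock logM.chkDef 16944 512 12 = true := by decide +kernel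

theorem logM_def13 : allBlock logM.chkDef 16944 512 13 = true := by decide +kernel

theorem logM_def14 : allBlock logM.chkDef 16944 512 14 = true := by decide +kernel

theorem logM_def15 : allBlock logM.chkDef 16944 512 15 = true := by decide +kernel

theorem logM_def16 : allBlock logM.chkDef 16944 512 16 = true := by decide +kernel

theorem logM_def17 : allBlock logM.chkDef 16944 512 17 = true := by decide +kernel

theorem logM_def18 : allBlock logM.chkDef 16944 512 18 = true := by decide +kernel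

theorem logM_def19 : allBlock logM.chkDef 16944 512 19 = true := by decide +kernel

theorem logM_def20 : allBlock logM.chkDef 16944 512 20 = true := by decide +kernel

theorem logM_def21 : allBlock logM.chkDef 16944 512 21 = true := by decide +kernel

theorem logM_def22 : allBlock logM.chkDef 16944 512 22 = true := by decide +kernel

theorem logM_def23 : allBlock logM.chkDef 16944 512 23 = true := by decide +kernel

theorem logM_def24 : allBlock logM.chkDef 16944 512 24 = true := by decide +kernel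

theorem logM_def25 : allBlock logM.chkDef 16944 512 25 = true := by decide +kernel

theorem logM_def26 : allBlock logM.chkDef 16944 512 26 = true := by decide +kernel

theorem logM_def27 : allBlock logM.chkDef 16944 512 27 = true := by decide +kernel

theorem logM_def28 : allBlock logM.chkDef 16944 512 28 = true := by decide +kernel

theorem logM_def29 : allBlock logM.chkDef 16944 512 29 = true := by decide +kernel

theorem logM_def30 : allBlock logM.chkDef 16944 512 30 = true := by decide +kernel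

theorem logM_def31 : allBlock logM.chkDef 16944 512 31 = true := by decide +kernel

theorem logM_def32 : allBlock logM.chkDef 16944 512 32 = true := by decide +kernel

theorem logM_def33 : allBlock logM.chkDef 16944 512 33 = true := by decide +kernel

theorem logM_defs : ∀ i, i + 1 < logM.M → logM.chkDef i = true := by
  intro i hi
  change i + 1 < 16945 at hi
  refine of_allBlock (n := 16944) (size := 512) (by decide) (fun j hj => ?_) (by omega)
  have hj' : j < 34 := by omega
  interval_cases j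
  · exact logM_def0
  · exact logM_def1
  · exact logM_def2
  · exact logM_def3
  · exact logM_def4
  · exact logM_def5
  · exact logM_def6
  · exact logM_def7
  · exact logM_def8
  · exact logM_def9
  · exact logM_def10
  · exact logM_def11
  · exact logM_def12
  · exact logM_def13
  · exact logM_def14
  · exact logM_def15
  · exact logM_def16
  · exact logM_def17
  · exact logM_def18
  · exact logM_def19
  · exact logM_def20
  · exact logM_def21
  · exact logM_def22
  · exact logM_def23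
  · exact logM_def24
  · exact logM_def25
  · exact logM_def26
  · exact logM_def27
  · exact logM_def28
  · exact logM_def29
  · exact logM_def30
  · exact logM_def31
  · exact logM_def32
  · exact logM_def33

theorem logM_facts : ∀ i, logM.M ≤ i + 1 → i < logM.nF → ∃ J, logM.chkFact i J = true := by
  exact logM.facts_of_covers (Log.Covers.trans logM (Log.Covers.trans logM (Log.Covers.trans logM (Log.Covers.trans logM (Log.Covers.trans logM (logM.covers_of_part _ _ _ logM_part0) (logM.covers_of_part _ _ _ logM_part1)) (Log.Covers.trans logM (logM.covers_of_part _ _ _ logM_part2) (Log.Covers.trans logM (logM.covers_of_part _ _ _ logM_part3) (logM.covers_of_part _ _ _ logM_part4)))) (Log.Covers.trans logM (Log.Covers.trans logM (logM.covers_of_part _ _ _ logM_part5) (Log.Covers.trans logM (logM.covers_of_part _ _ _ logM_part6) (logM.covers_of_part _ _ _ logM_part7))) (Log.Covers.trans logM (logM.covers_of_part _ _ _ logM_part8) (Log.Covers.trans logM (logM.covers_of_part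 _ _ _ logM_part9) (logM.covers_of_part _ _ _ logM_part10))))) (Log.Covers.trans logM (Log.Covers.trans logM (Log.Covers.trans logM (logM.covers_of_part _ _ _ logM_part11) (logM.covers_of_part _ _ _ logM_part12)) (Log.Covers.trans logM (logM.covers_of_part _ _ _ logM_part13) (Log.Covers.trans logM (logM.covers_of_part _ _ _ logM_part14) (logM.covers_of_part _ _ _ logM_part15)))) (Log.Covers.trans logM (Log.Covers.trans logM (logM.covers_of_part _ _ _ logM_part16) (Log.Covers.trans logM (logM.covers_of_part _ _ _ logM_part17) (logM.covers_of_part _ _ _ logM_part18))) (Log.Covers.trans logM (logM.covers_of_part _ _ _ logM_part19) (Log.Covers.trans logM (logM.covers_of_part _ _ _ logM_part20) (logM.covers_of_part _ _ _ logM_part21)))))) (Log.Covers.trans logM (Log.Covers.trans logM (Log.Covers.trans logM (Log.Covers.trans logM (logM.covers_of_part _ _ _ logM_part22) (logM.covers_of_part _ _ _ logM_part23)) (Log.Covers.trans logM (logM.covers_of_part _ _ _ logM_part24) (Log.Covers.trans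 logM (logM.covers_of_part _ _ _ logM_part25) (logM.covers_of_part _ _ _ logM_part26)))) (Log.Covers.trans logM (Log.Covers.trans logM (logM.covers_of_part _ _ _ logM_part27) (Log.Covers.trans logM (logM.covers_of_part _ _ _ logM_part28) (logM.covers_of_part _ _ _ logM_part29))) (Log.Covers.trans logM (logM.covers_of_part _ _ _ logM_part30) (Log.Covers.trans logM (logM.covers_of_part _ _ _ logM_part31) (logM.covers_of_part _ _ _ logM_part32))))) (Log.Covers.trans logM (Log.Covers.trans logM (Log.Covers.trans logM (logM.covers_of_part _ _ _ logM_part33) (logM.covers_of_part _ _ _ logM_part34)) (Log.Covers.trans logM (logM.covers_of_part _ _ _ logM_part35) (Log.Covers.trans logM (logM.covers_of_part _ _ _ logM_part36) (logM.covers_of_part _ _ _ logM_part37)))) (Log.Covers.trans logM (Log.Covers.trans logM (logM.covers_of_part _ _ _ logM_part38) (Log.Covers.trans logM (logM.covers_of_part _ _ _ logM_part39) (logM.covers_of_part _ _ _ logM_part40))) (Log.Covers.trans logM (logM.covers_of_part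 _ _ _ logM_part41) (Log.Covers.trans logM (logM.covers_of_part _ _ _ logM_part42) (logM.covers_of_part _ _ _ logM_part43))))))) rfl rfl

theorem logM_final0 : allBlock logM.chkFinal 10626 512 0 = true := by decide +kernel

theorem logM_final1 : allBlock logM.chkFinal 10626 512 1 = true := by decide +kernel

theorem logM_final2 : allBlock logM.chkFinal 10626 512 2 = true := by decide +kernel

theorem logM_final3 : allBlock logM.chkFinal 10626 512 3 = true := by decide +kernel

theorem logM_final4 : allBlock logM.chkFinal 10626 512 4 = true := by decide +kernel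

theorem logM_final5 : allBlock logM.chkFinal 10626 512 5 = true := by decide +kernel

theorem logM_final6 : allBlock logM.chkFinal 10626 512 6 = true := by decide +kernel

theorem logM_final7 : allBlock logM.chkFinal 10626 512 7 = true := by decide +kernel

theorem logM_final8 : allBlock logM.chkFinal 10626 512 8 = true := by decide +kernel

theorem logM_final9 : allBlock logM.chkFinal 10626 512 9 = true := by decide +kernel

theorem logM_final10 : allBlock logM.chkFinal 10626 512 10 = true := by decide +kernel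

theorem logM_final11 : allBlock logM.chkFinal 10626 512 11 = true := by decide +kernel

theorem logM_final12 : allBlock logM.chkFinal 10626 512 12 = true := by decide +kernel

theorem logM_final13 : allBlock logM.chkFinal 10626 512 13 = true := by decide +kernel

theorem logM_final14 : allBlock logM.chkFinal 10626 512 14 = true := by decide +kernel

theorem logM_final15 : allBlock logM.chkFinal 10626 512 15 = true := by decide +kernel

theorem logM_final16 : allBlock logM.chkFinal 10626 512 16 = true := by decide +kernel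

theorem logM_final17 : allBlock logM.chkFinal 10626 512 17 = true := by decide +kernel

theorem logM_final18 : allBlock logM.chkFinal 10626 512 18 = true := by decide +kernel

theorem logM_final19 : allBlock logM.chkFinal 10626 512 19 = true := by decide +kernel

theorem logM_final20 : allBlock logM.chkFinal 10626 512 20 = true := by decide +kernel

theorem logM_checks : logM.Checks where
  pos := by decide +kernel
  defs := logM_defs
  facts := logM_facts
  final := by
    intro k hk
    change k < 1771 * 6 at hk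
    refine of_allBlock (n := 10626) (size := 512) (by decide) (fun j hj => ?_) (by omega)
    have hj' : j < 21 := by omega
    interval_cases j
    · exact logM_final0
    · exact logM_final1
    · exact logM_final2
    · exact logM_final3
    · exact logM_final4
    · exact logM_final5
    · exact logM_final6
    · exact logM_final7
    · exact logM_final8
    · exact logM_final9
    · exact logM_final10
    · exact logM_final11
    · exact logM_final12
    · exact logM_final13
    · exact logM_final14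
    · exact logM_final15
    · exact logM_final16
    · exact logM_final17
    · exact logM_final18
    · exact logM_final19
    · exact logM_final20

theorem logM_derived : derivedAll 6 logMBase logM.rels [(4, 0, 0), (14, 0, 0), (4, 0, 0), (4, 0, 1), (0, 0, 1), (14, 3, 0), (14, 4, 0), (0, 0, 0), (8, 2, 0), (7, 13, 0), (6, 4, 0), (7, 0, 0), (15, 12, 0), (12, 12, 0), (13, 12, 0), (14, 1, 0), (14, 2, 0), (14, 7, 1), (14, 10, 0), (14, 5, 1), (12, 6, 1), (13, 3, 1), (12, 8, 0), (12, 0, 1), (0, 0, 2), (0, 0, 2), (0, 0, 2), (0, 0, 2), (14, 6, 0), (0, 0, 2), (10, 12, 0), (17, 9, 0), (10, 4, 0), (10, 0, 0), (7, 1, 0), (10, 13, 0), (6, 7, 0), (14, 9, 0), (14, 1, 1), (12, 4, 0), (6, 11, 0), (10, 14, 1), (6, 15, 0), (8, 1, 0), (0, 0, 2), (14, 3, 1), (0, 0, 2), (13, 0, 0), (12, 3, 0), (12, 0, 0), (18, 11, 0), (13, 9, 0), (13, 12, 1), (12, 5, 0), (14, 10, 1), (13, 6, 0), (13, 10, 1), (13, 8, 1), (13, 7, 1), (11, 10, 0), (15, 10, 0), (17, 6, 0), (16, 7, 0), (14, 0, 1), (14, 9, 1), (13,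 3, 0), (37, 0, 0), (12, 10, 0), (15, 2, 0), (17, 5, 0), (16, 5, 0), (20, 29, 0), (15, 6, 0), (17, 4, 0), (15, 10, 1), (10, 11, 0), (6, 9, 0), (6, 11, 1), (16, 12, 1), (14, 8, 0), (20, 15, 0), (13, 7, 0), (11, 7, 0), (15, 5, 0), (17, 10, 0), (16, 8, 0), (20, 35, 0), (20, 32, 0), (20, 30, 0), (24, 113, 0), (24, 106, 0), (13, 5, 1), (14, 5, 0), (13, 11, 1), (8, 0, 0), (14, 7, 0), (13, 1, 0), (15, 9, 0), (7, 16, 0), (7, 11, 1), (7, 2, 1), (6, 16, 0), (6, 14, 0), (6, 4, 1), (6, 2, 1), (9, 14, 0), (8, 16, 0), (8, 3, 1), (13, 4, 0), (15, 4, 0), (6, 3, 0), (16, 3, 0), (9, 1, 0), (9, 15, 1), (14, 6, 1), (11, 6, 0), (6, 0, 0), (9, 11, 0), (9, 9, 0), (12, 1, 0), (15, 9, 1), (17, 8, 0), (7, 11, 0), (6, 12, 0), (6, 2, 0), (16, 6, 0), (16, 4, 0), (16, 1, 0), (16, 10, 1), (10, 1, 0), (18, 8, 0), (21, 6, 0), (18, 9, 1), (15, 15, 0), (15, 0, 1), (10, 16, 1), (11, 4, 0), (17, 0, 0), (12, 6, 0), (11, 11, 0), (11, 8, 0), (15, 7, 0), (17, 7, 0), (16, 9, 0), (15, 15, 1), (15, 11, 1), (15, 14,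 0), (17, 12, 1), (17, 2, 0), (15, 8, 0), (16, 15, 0), (17, 3, 0), (16, 14, 1), (15, 14, 1), (16, 14, 0), (2, 0, 0), (10, 9, 0), (7, 12, 1), (10, 5, 0), (2, 0, 1), (11, 2, 0), (10, 10, 0), (10, 8, 0), (7, 13, 1), (10, 7, 0), (7, 15, 0), (7, 6, 0), (9, 4, 1), (9, 10, 1), (9, 1, 1), (10, 6, 0), (14, 8, 1), (10, 15, 0), (14, 4, 1), (15, 13, 0), (11, 3, 0), (10, 3, 0), (7, 9, 1), (10, 12, 1), (10, 10, 1), (10, 11, 1), (13, 4, 1), (18, 0, 0), (18, 11, 1), (13, 2, 0), (12, 7, 0), (11, 14, 1), (11, 7, 1), (15, 7, 1), (16, 11, 1), (20, 34, 1), (1, 0, 0), (20, 8, 0), (21, 0, 0), (10, 6, 1), (21, 3, 0), (21, 9, 1), (6, 10, 0), (6, 13, 1), (21, 5, 0), (21, 0, 1), (6, 9, 1), (6, 6, 1), (6, 3, 1), (14, 2, 1), (7, 3, 1), (21, 9, 0), (6, 5, 0), (10, 14, 0), (6, 8, 0), (9, 5, 1), (6, 6, 0), (6, 12, 1), (21, 4, 0), (21, 2, 0), (17, 11, 0), (20, 5, 0), (7, 0, 1), (12, 11, 1), (7, 14, 0), (8, 14, 0), (7, 4, 0), (19, 1, 0), (8, 0, 1), (13, 5, 0), (13, 9, 1), (6, 13, 0), (6, 14, 1), (6, 5, 1),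 (9, 17, 0), (9, 12, 0), (9, 7, 1), (8, 3, 0), (8, 16, 1), (8, 2, 1), (9, 15, 0), (8, 13, 1), (8, 4, 1), (11, 1, 0), (17, 15, 0), (7, 12, 0), (10, 5, 1), (17, 14, 0), (12, 9, 1), (7, 9, 0), (7, 14, 1), (9, 8, 1), (8, 6, 0), (7, 1, 1), (10, 4, 1), (16, 11, 0), (9, 7, 0), (9, 10, 0), (8, 8, 0), (15, 12, 1), (16, 7, 1), (9, 0, 0), (9, 9, 1), (8, 5, 0), (8, 11, 1), (8, 1, 1), (12, 2, 0), (7, 8, 0), (7, 3, 0), (8, 10, 0), (11, 5, 0), (9, 5, 0), (9, 12, 1), (21, 4, 1), (21, 8, 1), (21, 3, 1), (21, 1, 1), (7, 16, 1), (16, 15, 1), (19, 2, 0), (8, 9, 0), (8, 7, 0), (9, 13, 0), (8, 5, 1), (9, 4, 0), (8, 4, 0), (3, 0, 1), (9, 16, 1), (16, 0, 1), (13, 11, 0), (15, 3, 0), (14, 0, 0), (16, 1, 1), (9, 2, 0), (8, 14, 1), (7, 10, 0), (6, 7, 1), (6, 1, 1), (18, 6, 0), (37, 2, 0), (12, 10, 1), (16, 6, 1), (37, 1, 0), (15, 13, 1), (7, 4, 1), (6, 10, 1), (6, 8, 1), (8, 15, 1), (8, 10, 1), (1, 0, 1), (13, 1, 1), (16, 2, 0), (11, 15, 1), (11, 8, 1), (11, 12, 0), (7, 2, 0), (11, 0, 0), (13, 8,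 0), (16, 0, 0), (12, 2, 1), (15, 1, 0), (16, 16, 0), (6, 0, 1), (13, 2, 1), (18, 5, 0), (11, 9, 0), (13, 6, 1), (18, 1, 0), (13, 10, 0), (18, 2, 0), (18, 1, 1), (13, 0, 1), (12, 12, 1), (15, 8, 1), (16, 16, 1), (18, 4, 0), (12, 9, 0), (18, 3, 0), (18, 10, 0), (15, 0, 0), (20, 12, 0), (20, 10, 0), (18, 7, 0), (16, 9, 1), (15, 11, 0), (27, 18, 1), (27, 13, 1), (18, 3, 1), (17, 13, 1), (11, 14, 0), (20, 19, 1), (10, 7, 1), (7, 6, 1), (16, 10, 0), (15, 6, 1), (8, 11, 0), (18, 4, 1), (7, 7, 0), (10, 16, 0), (9, 16, 0), (9, 0, 1), (9, 3, 1), (5, 0, 0), (21, 1, 0), (7, 5, 0), (11, 13, 0), (9, 3, 0), (9, 11, 1), (8, 15, 0), (8, 13, 0), (8, 17, 0), (8, 7, 1), (8, 8, 1), (8, 9, 1), (7, 15, 1), (10, 2, 0), (9, 2, 1), (20, 9, 0), (5, 0, 1), (20, 19, 0), (27, 9, 0), (27, 57, 0), (6, 15, 1), (8, 17, 1), (20, 18, 1), (27, 54, 0), (27, 63, 1), (26, 88, 1), (25, 136, 0), (9, 6, 0), (3, 0, 0), (21, 10, 0), (21, 7, 0), (20, 16, 1), (9, 8, 0), (9, 13, 1), (19, 1, 1), (20, 22, 0), (20, 4, 0),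 (12, 7, 1), (19, 0, 1), (20, 0, 1), (27, 54, 1), (27, 39, 1), (24, 127, 0), (24, 75, 0), (24, 28, 0), (26, 30, 0), (26, 15, 0), (18, 9, 0), (27, 58, 0), (24, 48, 0), (24, 97, 1), (23, 1, 0), (24, 29, 0), (24, 91, 1), (23, 7, 1), (27, 36, 0), (27, 6, 0), (26, 102, 0), (25, 134, 0), (27, 42, 0), (12, 8, 1), (20, 21, 1), (16, 13, 0), (17, 16, 0), (20, 13, 1), (24, 120, 0), (27, 11, 0), (20, 28, 1), (18, 0, 1), (26, 64, 0), (8, 6, 1), (20, 20, 0), (25, 103, 1), (23, 11, 0), (23, 3, 0), (24, 98, 0), (23, 15, 0), (23, 6, 0), (12, 1, 1), (24, 101, 0), (24, 97, 0), (24, 100, 1), (20, 29, 1), (20, 21, 0), (20, 15, 1), (20, 23, 0), (20, 14, 1), (12, 5, 1), (20, 18, 0), (20, 12, 1), (24, 32, 0), (24, 78, 1), (27, 46, 1), (37, 2, 1), (15, 3, 1), (15, 2, 1), (17, 13, 0), (27, 60, 1), (20, 26, 1), (18, 7, 1), (37, 0, 1), (12, 11, 0), (7, 7, 1), (18, 2, 1), (18, 10, 1), (10, 9, 1), (7, 10, 1), (8, 12, 0), (9, 6, 1), (12, 4, 1), (9, 14, 1), (12, 3, 1), (10, 0, 1), (10, 8, 1), (6, 1, 0),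 (15, 5, 1), (16, 3, 1), (8, 12, 1), (16, 13, 1), (17, 9, 1), (16, 8, 1), (17, 14, 1), (17, 12, 0), (27, 62, 1), (27, 33, 0), (27, 18, 0), (27, 3, 0), (26, 97, 1), (19, 2, 1), (20, 3, 0), (20, 4, 1), (27, 15, 0), (27, 29, 0), (18, 8, 1), (23, 0, 1), (24, 96, 0), (20, 32, 1), (20, 9, 1), (24, 114, 0), (24, 104, 0), (24, 65, 1), (26, 42, 1), (26, 1, 1), (26, 26, 0), (26, 107, 1), (26, 92, 1), (20, 17, 1), (27, 56, 0), (26, 27, 0), (26, 105, 1), (26, 55, 1), (20, 26, 0), (26, 110, 1), (26, 95, 1), (26, 45, 1), (26, 95, 0), (19, 0, 0), (20, 24, 0), (26, 66, 0), (26, 78, 0), (20, 2, 0), (26, 79, 0), (11, 15, 0), (6, 16, 1), (27, 58, 1), (22, 2, 0), (20, 35, 1), (11, 13, 1), (20, 1, 0), (27, 48, 1), (26, 84, 0), (20, 6, 1), (11, 9, 1), (9, 17, 1), (15, 4, 1), (20, 13, 0), (20, 7, 1), (27, 52, 0), (27, 22, 0), (26, 131, 1), (16, 4, 1), (20, 5, 1), (20, 2, 1), (27, 50, 0), (27, 5, 0), (27, 65, 1), (27, 50, 1), (27, 20, 1), (24, 116, 0), (24, 103, 0), (26, 106, 0), (26, 91, 0), (26,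 86, 0), (26, 36, 0), (26, 6, 0), (26, 129, 1), (26, 114, 1), (26, 64, 1), (25, 130, 0), (25, 44, 0), (22, 6, 0), (37, 1, 1), (27, 65, 0), (10, 13, 1), (16, 5, 1), (27, 2, 1), (20, 31, 0), (20, 25, 1), (27, 51, 0), (24, 109, 0), (24, 7, 0), (25, 22, 0), (21, 10, 1), (21, 5, 1), (27, 61, 0), (27, 28, 0), (27, 52, 1), (27, 33, 1), (24, 58, 0), (24, 101, 1), (24, 69, 1), (24, 56, 1), (24, 23, 1), (26, 122, 1), (26, 63, 1), (25, 93, 0), (20, 33, 0), (27, 49, 0), (23, 12, 1), (24, 15, 0), (24, 107, 1), (24, 19, 1), (26, 119, 0), (26, 93, 0), (26, 45, 0), (26, 24, 0), (26, 78, 1), (26, 76, 1), (25, 121, 0), (25, 107, 0), (25, 84, 0), (25, 82, 0), (25, 38, 0), (25, 29, 0), (25, 131, 1), (25, 127, 1), (25, 125, 1), (25, 116, 1), (25, 17, 1), (27, 12, 0), (27, 55, 1), (27, 10, 1), (24, 76, 0), (24, 81, 1), (26, 81, 0), (26, 31, 0), (25, 0, 1), (17, 1, 0), (20, 16, 0), (20, 11, 0), (20, 24, 1), (27, 20, 0), (27, 35, 1), (27, 30, 1), (27, 17, 1), (24, 95, 0), (24, 67, 0), (24, 44,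 0), (24, 23, 0), (24, 21, 0), (24, 11, 0), (24, 6, 0), (24, 3, 0), (24, 125, 1), (24, 123, 1), (24, 120, 1), (24, 108, 1), (24, 45, 1), (24, 30, 1), (26, 118, 0), (26, 83, 0), (26, 68, 0), (26, 65, 0), (26, 3, 0), (26, 126, 1), (26, 86, 1), (26, 81, 1), (26, 74, 1), (26, 61, 1), (26, 9, 1), (26, 6, 1), (25, 133, 0), (25, 127, 0), (25, 90, 0), (25, 79, 0), (25, 46, 0), (25, 35, 0), (25, 33, 0), (25, 11, 0), (25, 8, 0), (25, 3, 0), (25, 129, 1), (25, 117, 1), (25, 110, 1), (25, 91, 1), (25, 27, 1), (25, 2, 1), (22, 8, 1), (22, 5, 1), (20, 28, 0), (20, 22, 1), (27, 63, 0), (27, 43, 0), (27, 43, 1), (27, 24, 1), (23, 16, 0), (23, 5, 1), (23, 2, 1), (24, 122, 0), (24, 117, 0), (24, 112, 0), (24, 39, 0), (24, 37, 0), (24, 24, 0), (24, 4, 0), (24, 122, 1), (24, 118, 1), (24, 99, 1), (24, 92, 1), (24, 90, 1), (24, 86, 1), (24, 83, 1), (24, 73, 1), (24, 47, 1), (24, 42, 1), (24, 32, 1), (26, 129, 0), (26, 127, 0), (26, 104, 0), (26, 89, 0), (26, 28, 0), (26, 13, 0), (26, 5, 1),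 (25, 131, 0), (25, 123, 0), (25, 88, 0), (25, 106, 1), (25, 98, 1), (25, 9, 1), (22, 0, 0), (22, 9, 0), (22, 7, 1), (22, 1, 1), (23, 13, 0), (23, 7, 0), (23, 4, 1), (24, 125, 0), (24, 115, 0), (24, 102, 0), (24, 65, 0), (24, 63, 0), (24, 46, 0), (24, 22, 0), (24, 117, 1), (24, 102, 1), (24, 96, 1), (24, 85, 1), (24, 43, 1), (24, 39, 1), (24, 6, 1), (26, 72, 0), (26, 58, 0), (26, 79, 1), (26, 65, 1), (26, 28, 1), (25, 124, 0), (25, 120, 0), (25, 45, 0), (25, 7, 0), (25, 133, 1), (25, 126, 1), (25, 118, 1), (25, 112, 1), (25, 95, 1), (20, 25, 0), (24, 16, 0), (24, 0, 1), (24, 115, 1), (26, 111, 0), (26, 0, 1), (22, 1, 0), (27, 27, 0), (25, 124, 1), (24, 35, 1), (24, 12, 1), (26, 121, 1), (25, 108, 0), (26, 46, 0), (26, 1, 0), (26, 71, 1), (27, 40, 1), (22, 0, 1), (24, 119, 0), (26, 106, 1), (27, 62, 0), (27, 44, 0), (24, 111, 0), (24, 92, 0), (26, 44, 0), (27, 34, 0), (23, 19, 0), (26, 108, 0), (27, 25, 1), (20, 27, 1), (20, 34, 0)] = true := by decide +kernel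

end Cfsg.Agent.Fus.Transv.EnumM
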